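import Groth.Agent.L29.DCoh.RHomInjDim
import Groth.Agent.L29.BidualSch.Chart
import Groth.Agent.L29.Dual.SchUnique
import Groth.Agent.L10.ShriekLoc.Dualizing
import Groth.Agent.L10.FMBC.ProjNat
import Groth.Agent.L29.DCoh.QCohTensor

/-!
Duals of bounded below objects into dualizing complexes; right adjoints of direct images and internal Hom.
-/

set_option autoImplicit false
set_option linter.style.haveILetI false
set_option backward.defeqAttrib.useBackward true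
set_option backward.isDefEq.respectTransparency false
set_option backward.isDefEq.respectTransparency.types false

universe u

open CategoryTheory CategoryTheory.Limits AlgebraicGeometry

attribute [local instance] HasDerivedCategory.standard

noncomputable section

namespace Groth.L10.ShriekDual

open Groth.L00 Groth.L29 Groth.L29.DC

attribute [local instance] KFlat.hasLTensorCx RHom.hasRSheafHom

variable {X Y : Scheme.{u}}

theorem isLE_chart [∀ (R : CommRingCat.{u}), PreservesFiniteLimits (tilde.functor R)] {R : CommRingCat.{u}}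
    [IsNoetherianRing R] (j : Spec R ⟶ Y) [IsOpenImmersion j] [PreservesFiniteLimits (ExtZero.res j)]
    (E : CochainComplex Y.Modules ℤ) (n : ℤ) (hE : ((DCoh.restrictD j).obj (DCoh.toD Y E)).IsGE n)
    (K : DCoh.D Y) (ω : Dual.D R) (hω : Dual.IsDualizing R ω)
    (e : (DCoh.restrictD j).obj K ≅ (DCoh.tildeD R).obj ω) :
    ∃ d : ℤ, ((DCoh.restrictD j).obj ((DCoh.RSheafHom E).obj K)).IsLE d := by
  obtain ⟨a, b, I, hI, hinj, ⟨eI⟩, -⟩ := BidualSch.exists_model hω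
  haveI : ((ModRes.tCx R).obj I).IsStrictlyGE a := (CochainComplex.isStrictlyGE_iff _ _).2 fun i hi =>
    (tilde.functor R).map_isZero (hI i (Or.inl hi))
  haveI : ((ModRes.tCx R).obj I).IsStrictlyLE b := (CochainComplex.isStrictlyLE_iff _ _).2 fun i hi =>
    (tilde.functor R).map_isZero (hI i (Or.inr hi))
  have hj : ∀ i, Injective (((ModRes.tCx R).obj I).X i) := fun i => QCohInj.injective_tilde (I.X i) (hinj i)
  let fac := (Scheme.Modules.restrictFunctor j).mapDerivedCategoryFactors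
  haveI : DerivedCategory.TStructure.t.IsGE ((DCoh.restrictD j).obj (DCoh.toD Y E)) n := hE
  have hE' : (DCoh.toD (Spec R) ((ExtZero.rCx j).obj E)).IsGE n :=
    @Triangulated.TStructure.isGE_of_iso _ _ _ _ _ _ _ _ _ _ (fac.app E) n hE
  have h := RHomInjDim.isLE_RSheafHom _ n hE' ((ModRes.tCx R).obj I) hj a b
  obtain ⟨r⟩ := SchUnique.restrict_RSheafHom j E K
  exact ⟨b - n, DerivedCategory.TStructure.t.isLE_of_iso
    (r ≪≫ (DCoh.RSheafHom _).mapIso (e ≪≫ (DCoh.tildeD R).mapIso eI.symm ≪≫ TildeAlg.qIso I)).symm (b - n)⟩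

/-- duals of bounded below objects are bounded above -/
theorem exists_isLE_dual [IsNoetherian Y]
    [∀ (U : Scheme.{u}) (j : U ⟶ Y) [IsOpenImmersion j], PreservesFiniteLimits (Scheme.Modules.restrictFunctor j)]
    [∀ (R : CommRingCat.{u}), PreservesFiniteLimits (tilde.functor R)] (K : DCoh.D Y)
    (hK : Dual2.IsDualizingSch Y K) (E : CochainComplex Y.Modules ℤ) (n : ℤ) (hE : (DCoh.toD Y E).IsGE n) :
    ∃ d : ℤ, ((DCoh.RSheafHom E).obj K).IsLE d := by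
  let 𝒰 := Y.affineCover.finiteSubcover
  let W := (DCoh.RSheafHom E).obj K
  have h : ∀ p : 𝒰.I₀, ∃ c : ℤ, ∀ i, c < i → IsZero ((DCoh.HD W i).restrict (𝒰.f p)) := fun p => by
    haveI : IsAffine (𝒰.X p) := by dsimp [𝒰]; infer_instance
    let j := (𝒰.X p).isoSpec.inv ≫ 𝒰.f p
    haveI : IsNoetherianRing Γ(𝒰.X p, ⊤) :=
      haveI : IsLocallyNoetherian (𝒰.X p) := isLocallyNoetherian_of_isOpenImmersion (𝒰.f p)
      IsLocallyNoetherian.component_noetherian ⟨⊤, isAffineOpen_top _⟩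
    obtain ⟨ω, hω, ⟨e⟩⟩ := hK Γ(𝒰.X p, ⊤) j
    haveI : PreservesFiniteLimits (ExtZero.res j) :=
      inferInstanceAs (PreservesFiniteLimits (Scheme.Modules.restrictFunctor j))
    have hE' : ((DCoh.restrictD j).obj (DCoh.toD Y E)).IsGE n := (DerivedCategory.isGE_iff _ _).2 fun i hi =>
      ((Scheme.Modules.restrictFunctor j).map_isZero (DerivedCategory.isZero_of_isGE (hX := hE) _ n i hi)).of_iso
        (HDResIso j _ i)
    obtain ⟨d, hd⟩ := isLE_chart j E n hE' K ω hω e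
    refine ⟨d, fun i hi => ?_⟩
    have hz : IsZero ((DCoh.HD W i).restrict j) :=
      (DerivedCategory.isZero_of_isLE (hX := hd) _ d i hi).of_iso (HDResIso j W i).symm
    exact ((Scheme.Modules.restrictFunctor (𝒰.X p).isoSpec.hom).map_isZero hz).of_iso
      (((Scheme.Modules.restrictFunctorCongr ((𝒰.X p).isoSpec.hom_inv_id_assoc (𝒰.f p)).symm).trans
        (Scheme.Modules.restrictFunctorComp (𝒰.X p).isoSpec.hom j)).app (DCoh.HD W i))
  choose c hc using h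
  obtain ⟨c₀, hc₀⟩ := Finite.exists_le c
  refine ⟨c₀, (DerivedCategory.isLE_iff _ _).2 fun i hi => ?_⟩
  exact Groth.L21.Mod.isZero_of_restrict (fun p => 𝒰.f p) (fun y => ⟨_, 𝒰.covers y⟩) _ fun p =>
    hc p i (lt_of_le_of_lt (hc₀ p) hi)

/-- two representing objects of the same functor -/
theorem exists_iso_of_equiv {C : Type*} [Category C] (A B : C) (e : ∀ Z, (Z ⟶ A) ≃ (Z ⟶ B))
    (h : ∀ {Z Z' : C} (a : Z ⟶ Z') (g : Z' ⟶ A), e Z (a ≫ g) = a ≫ e Z' g) : Nonempty (A ≅ B) :=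
  ⟨Yoneda.ext A B (fun {Z} g => e Z g) (fun {Z} g => (e Z).symm g) (fun {Z} g => (e Z).symm_apply_apply g)
    (fun {Z} g => (e Z).apply_symm_apply g) (fun {Z Z'} a g => h a g)⟩

/-- transporting an internal hom along a right adjoint satisfying the projection formula -/
theorem nonempty_iso_ihom {C D A B : Type*} [Category C] [Category D] [Category A] [Category B]
    (ι : C ⥤ A) [ι.Full] [ι.Faithful] (κ : D ⥤ B) [κ.Full] [κ.Faithful] {F : C ⥤ D} {G : D ⥤ C} (adj : F ⊣ G)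
    {T U : B ⥤ B} (a : T ⊣ U) {T' U' : A ⥤ A} (a' : T' ⊣ U') (Tq : C ⥤ C) (i : Tq ⋙ ι ≅ ι ⋙ T')
    (σ : F ⋙ κ ⋙ T ≅ Tq ⋙ F ⋙ κ) (G₂ R : D) (r : κ.obj R ≅ U.obj (κ.obj G₂)) (S : C)
    (s : ι.obj S ≅ U'.obj (ι.obj (G.obj G₂))) : Nonempty (G.obj R ≅ S) := by
  refine exists_iso_of_equiv _ _ (fun Z => (adj.homEquiv Z R).symm.trans <|
    (Functor.FullyFaithful.ofFullyFaithful κ).homEquiv.trans <| r.homToEquiv.trans <| (a.homEquiv _ _).symm.trans <|
    (σ.app Z).homFromEquiv.trans <| (Functor.FullyFaithful.ofFullyFaithful κ).homEquiv.symm.trans <|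
    (adj.homEquiv (Tq.obj Z) G₂).trans <| (Functor.FullyFaithful.ofFullyFaithful ι).homEquiv.trans <|
    (i.app Z).homFromEquiv.trans <| (a'.homEquiv _ _).trans <| s.symm.homToEquiv.trans <|
    (Functor.FullyFaithful.ofFullyFaithful ι).homEquiv.symm) fun {Z Z'} b g => ?_
  apply ι.map_injective
  have h1 : ∀ {X₁ X₂ : C} (x : ι.obj X₁ ⟶ ι.obj X₂),
      ι.map ((Functor.FullyFaithful.ofFullyFaithful ι).homEquiv.symm x) = x := fun x => ι.map_preimage x
  have h2 : ∀ {X₁ X₂ : D} (x : κ.obj X₁ ⟶ κ.obj X₂),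
      κ.map ((Functor.FullyFaithful.ofFullyFaithful κ).homEquiv.symm x) = x := fun x => κ.map_preimage x
  have h3 : ∀ (x : κ.obj (F.obj (Tq.obj Z')) ⟶ κ.obj G₂),
      (Functor.FullyFaithful.ofFullyFaithful κ).homEquiv.symm (κ.map (F.map (Tq.map b)) ≫ x) =
        F.map (Tq.map b) ≫ (Functor.FullyFaithful.ofFullyFaithful κ).homEquiv.symm x := fun x =>
    κ.map_injective (by rw [h2, κ.map_comp, h2])
  have hσ : σ.inv.app Z ≫ T.map (κ.map (F.map b)) = κ.map (F.map (Tq.map b)) ≫ σ.inv.app Z' :=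
    (σ.inv.naturality b).symm
  have hi : i.inv.app Z ≫ ι.map (Tq.map b) = T'.map (ι.map b) ≫ i.inv.app Z' := (i.inv.naturality b).symm
  simp [Iso.homToEquiv, Iso.homFromEquiv, Adjunction.homEquiv_naturality_left_symm, h1,
    reassoc_of% hσ, h3, Adjunction.homEquiv_naturality_left, reassoc_of% hi]

set_option maxHeartbeats 800000 in
/-- right adjoints of direct images exchange internal Homs -/
theorem nonempty_shriek_RSheafHom [IsNoetherian X] [IsNoetherian Y] (f : X ⟶ Y) [IsProper f] [DCoh.HasRpush f]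
    [DCoh.HasLpull f] (h : DCoh.RpushPreservesQCoh f) {a : DCoh.DQCoh Y ⥤ DCoh.DQCoh X}
    (adj : DCoh.RpushQ f h ⊣ a) (P : CochainComplex Y.Modules ℤ)
    (hP : DCoh.IsQCohD (DCoh.toD Y P)) (G₂ : DCoh.DQCoh Y)
    (hq : DCoh.IsQCohD ((DCoh.RSheafHom P).obj G₂.obj))
    (P' : CochainComplex X.Modules ℤ)
    (eP : DCoh.toD X P' ≅ (DCoh.Lpull f).obj (DCoh.toD Y P))
    (hq' : DCoh.IsQCohD ((DCoh.RSheafHom P').obj (a.obj G₂).obj)) :
    Nonempty ((a.obj ⟨(DCoh.RSheafHom P).obj G₂.obj, hq⟩).obj ≅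
      (DCoh.RSheafHom P').obj (a.obj G₂).obj) := by
  obtain ⟨P₀, q, hP₀, -, hq₀, -⟩ := Groth.L00.KFlat.exists_resolution P
  haveI := (DerivedCategory.isIso_Q_map_iff_quasiIso _ q).2 hq₀
  let eq : DerivedCategory.Q.obj P₀ ≅ DerivedCategory.Q.obj P := asIso (DerivedCategory.Q.map q)
  obtain ⟨c₁⟩ := Groth.L29.BC.ProjQC.nonempty_LTensorCx_congr eq
  obtain ⟨c₂⟩ := Groth.L29.BC.ProjQC.nonempty_LTensorCx_congr
    ((DerivedApi.objIso (DerivedApi.acyclicKFlat_pullback f) P₀ hP₀).symm ≪≫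
      (DCoh.Lpull f).mapIso eq ≪≫ eP.symm)
  obtain ⟨τ, hτ⟩ := Groth.L10.FMBC.exists_projection f P₀ hP₀ (isQCohD_of_iso eq.symm hP)
  let ι := ObjectProperty.ι (DCoh.IsQCohD (X := X))
  let κ := ObjectProperty.ι (DCoh.IsQCohD (X := Y))
  have hP'q : DCoh.IsQCohD (DCoh.toD X P') := isQCohD_of_iso eP.symm (isQCohD_Lpull f hP)
  let Tq : DCoh.DQCoh X ⥤ DCoh.DQCoh X := (DCoh.IsQCohD (X := X)).lift (ι ⋙ DCoh.LTensorCx P')
    fun Z => isQCohD_LTensorCx P' hP'q Z.property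
  let i : Tq ⋙ ι ≅ ι ⋙ DCoh.LTensorCx P' := ObjectProperty.liftCompιIso _ _ _
  let rq : DCoh.RpushQ f h ⋙ κ ≅ ι ⋙ DCoh.Rpush f := ObjectProperty.liftCompιIso _ _ _
  haveI : ∀ Z : DCoh.DQCoh X, IsIso (τ.app Z.obj) := fun Z => hτ Z.obj Z.property
  let τq : ι ⋙ DCoh.Rpush f ⋙ DCoh.LTensorCx P₀ ≅
      ι ⋙ DCoh.LTensorCx ((Proj.pullCx f).obj P₀) ⋙ DCoh.Rpush f :=
    NatIso.ofComponents (fun Z => asIso (τ.app Z.obj)) fun m => τ.naturality m.hom
  let σ : DCoh.RpushQ f h ⋙ κ ⋙ DCoh.LTensorCx P ≅ Tq ⋙ DCoh.RpushQ f h ⋙ κ :=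
    Functor.isoWhiskerRight rq (DCoh.LTensorCx P) ≪≫
    Functor.isoWhiskerLeft (ι ⋙ DCoh.Rpush f) c₁.symm ≪≫ τq ≪≫
    Functor.isoWhiskerLeft ι (Functor.isoWhiskerRight c₂ (DCoh.Rpush f)) ≪≫
    Functor.isoWhiskerRight i.symm (DCoh.Rpush f) ≪≫ Functor.isoWhiskerLeft Tq rq.symm
  obtain ⟨φ⟩ := nonempty_iso_ihom ι κ adj (DCoh.RSheafHomAdj P) (DCoh.RSheafHomAdj P') Tq i σ G₂
    ⟨(DCoh.RSheafHom P).obj G₂.obj, hq⟩ (Iso.refl _)
    ⟨(DCoh.RSheafHom P').obj (a.obj G₂).obj, hq'⟩ (Iso.refl _)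
  exact ⟨ι.mapIso φ⟩

end Groth.L10.ShriekDual
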